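import Groth.Agent.CIntReg.Basic
import Mathlib.RingTheory.Nakayama

/-! # Regular ideals: composition and cancellation -/

set_option autoImplicit false
set_option linter.style.haveILetI false

universe u

open RingTheory.Sequence IsLocalRing

namespace Groth.Agent.CIntReg

variable {A : Type u} [CommRing A] [IsLocalRing A]

/-- `K` modulo `J` is generated by a regular sequence, with the sequence lifted. -/
theorem exists_lift {J K : Ideal A} (hJK : J ≤ K) (hK : K ≤ maximalIdeal A)
    (h : CInt.IsRegularIdeal (K.map (Ideal.Quotient.mk J))) :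
    ∃ ts : List A, (∀ t ∈ ts, t ∈ K) ∧ IsWeaklyRegular (A ⧸ J) ts ∧ Ideal.ofList ts ⊔ J = K := by
  obtain ⟨rs, hrs, he⟩ := h
  obtain ⟨ts, rfl⟩ : ∃ ts : List A, ts.map (Ideal.Quotient.mk J) = rs :=
    List.map_surjective_iff.mpr Ideal.Quotient.mk_surjective rs
  have hsup : Ideal.ofList ts ⊔ J = K := by
    have h2 := congrArg (Ideal.comap (Ideal.Quotient.mk J)) he
    rwa [← Ideal.map_ofList, Ideal.comap_map_quotientMk, Ideal.comap_map_quotientMk, sup_eq_right.mpr hJK,
      sup_comm] at h2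
  exact ⟨ts, fun t ht => hsup.le (Ideal.mem_sup_left (Ideal.subset_span ht)),
    (isWeaklyRegular_map_algebraMap_iff (A ⧸ J) (A ⧸ J) ts).mp hrs.toIsWeaklyRegular, hsup⟩

variable [IsNoetherianRing A]

/-- Composition of regular ideals, with lifted sequences. -/
theorem isRegularIdeal_of_lift {J K : Ideal A} (hK : K ≤ maximalIdeal A) (hJ : CInt.IsRegularIdeal J)
    {ts : List A} (hreg : IsWeaklyRegular (A ⧸ J) ts) (hsup : Ideal.ofList ts ⊔ J = K) :
    CInt.IsRegularIdeal K := by
  obtain ⟨rs, hrs, rfl⟩ := hJ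
  have he : Ideal.ofList (rs ++ ts) = K := by rw [Ideal.ofList_append, sup_comm, hsup]
  refine ⟨rs ++ ts, .of_isWeaklyRegular_of_mem_maximalIdeal _
    (fun r hr => hK (he ▸ Ideal.subset_span hr)) ((isWeaklyRegular_append_iff A rs ts).mpr ⟨hrs.toIsWeaklyRegular, ?_⟩), he⟩
  refine ((Submodule.quotEquivOfEq (Ideal.ofList rs • ⊤ : Submodule A A) (Ideal.ofList rs) ?_).isWeaklyRegular_congr ts).mpr hreg
  exact Ideal.mul_top _

/-- An ideal containing the regular sequence generating a larger ideal, modulo which it stays regular, is zero. -/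
theorem eq_bot_of_isWeaklyRegular {gs : List A} (hm : ∀ g ∈ gs, g ∈ maximalIdeal A) (c : Ideal A)
    (hc : c ≤ Ideal.ofList gs) (hreg : IsWeaklyRegular (A ⧸ c) gs) : c = ⊥ := by
  have hrange : Ideal.span (Set.range gs.get) = Ideal.ofList gs := by rw [Set.range_list_get]
  have hjac : Ideal.span (Set.range gs.get) ≤ (⊥ : Ideal A).jacobson :=
    (hrange.symm ▸ Ideal.span_le.mpr hm : Ideal.span (Set.range gs.get) ≤ maximalIdeal A).trans
      (IsLocalRing.maximalIdeal_le_jacobson _)
  have h1 := QReg.inf_pow_eq_mul c (QReg.weaklyRegular_quotient c (f := gs.get) (by rwa [List.ofFn_get])) hjac 1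
  rw [pow_one, hrange, inf_eq_left.mpr hc] at h1
  refine Submodule.eq_bot_of_le_smul_of_le_jacobson_bot (Ideal.ofList gs) c (IsNoetherian.noetherian c) ?_ (hrange ▸ hjac)
  rw [smul_eq_mul, mul_comm, ← h1]

omit [IsLocalRing A] [IsNoetherianRing A] in
theorem mem_ker_quotient_map {J : Ideal A} {t : A} (x : A) :
    (Submodule.Quotient.mk (Ideal.Quotient.mk J x) : QuotSMulTop t (A ⧸ J)) = 0 ↔ x ∈ J ⊔ Ideal.span {t} := by
  rw [Submodule.Quotient.mk_eq_zero, Submodule.mem_smul_pointwise_iff_exists]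
  constructor
  · rintro ⟨y, -, hy⟩
    obtain ⟨y, rfl⟩ := Ideal.Quotient.mk_surjective y
    have : t * y - x ∈ J := Ideal.Quotient.eq.mp hy
    exact Submodule.mem_sup.mpr ⟨-(t * y - x), J.neg_mem this, t * y, Ideal.mul_mem_right _ _ (Ideal.mem_span_singleton_self t), by ring⟩
  · intro hx
    obtain ⟨j, hj, z, hz, rfl⟩ := Submodule.mem_sup.mp hx
    obtain ⟨y, rfl⟩ := Ideal.mem_span_singleton'.mp hz
    refine ⟨Ideal.Quotient.mk J y, trivial, Ideal.Quotient.eq.mpr ?_⟩
    show t * y - (j + y * t) ∈ J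
    rw [show t * y - (j + y * t) = -j by ring]
    exact J.neg_mem hj

/-- Passing to the quotient by the first element of the sequence. -/
theorem isWeaklyRegular_quotient {J : Ideal A} {t : A} {ts : List A}
    (h : IsWeaklyRegular (QuotSMulTop t (A ⧸ J)) ts) :
    IsWeaklyRegular ((A ⧸ Ideal.span {t}) ⧸ J.map (Ideal.Quotient.mk (Ideal.span {t})))
      (ts.map (Ideal.Quotient.mk (Ideal.span {t}))) := by
  let f : A →ₗ[A] QuotSMulTop t (A ⧸ J) := (Submodule.mkQ _) ∘ₗ (Submodule.mkQ J)
  have hf : Function.Surjective f := (Submodule.mkQ_surjective _).comp (Submodule.mkQ_surjective _)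
  let g : A →ₗ[A] (A ⧸ Ideal.span {t}) ⧸ J.map (Ideal.Quotient.mk (Ideal.span {t})) :=
    (Algebra.linearMap A _)
  have hg : Function.Surjective g := fun z => by
    obtain ⟨y, rfl⟩ := Ideal.Quotient.mk_surjective z
    obtain ⟨x, rfl⟩ := Ideal.Quotient.mk_surjective y
    exact ⟨x, rfl⟩
  have hker : LinearMap.ker f = LinearMap.ker g := by
    ext x
    show (Submodule.Quotient.mk (Ideal.Quotient.mk J x) : QuotSMulTop t (A ⧸ J)) = 0 ↔
      Ideal.Quotient.mk (J.map (Ideal.Quotient.mk (Ideal.span {t}))) (Ideal.Quotient.mk _ x) = 0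
    rw [mem_ker_quotient_map, Ideal.Quotient.eq_zero_iff_mem, ← Ideal.mem_comap, Ideal.comap_map_quotientMk, sup_comm]
  let e : QuotSMulTop t (A ⧸ J) ≃ₗ[A] (A ⧸ Ideal.span {t}) ⧸ J.map (Ideal.Quotient.mk (Ideal.span {t})) :=
    (f.quotKerEquivOfSurjective hf).symm.trans ((Submodule.quotEquivOfEq _ _ hker).trans (g.quotKerEquivOfSurjective hg))
  exact (isWeaklyRegular_map_algebraMap_iff (A ⧸ Ideal.span {t}) _ ts).mpr ((e.isWeaklyRegular_congr ts).mp h)

omit [IsNoetherianRing A] in
/-- The head of a sequence regular modulo `J` is not in `m K`. -/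
theorem head_notMem [IsNoetherianRing A] {J K : Ideal A} (hK : K ≤ maximalIdeal A) {t : A} {ts : List A}
    (hJK : J ≤ K) (hreg : IsWeaklyRegular (A ⧸ J) (t :: ts)) (hsup : Ideal.ofList (t :: ts) ⊔ J = K) :
    t ∉ maximalIdeal A * K := by
  intro ht
  have hle : maximalIdeal A * K ≤ maximalIdeal A * Ideal.span {t} ⊔ (Ideal.ofList ts ⊔ J) := by
    rw [← hsup, Ideal.ofList_cons, sup_assoc, Ideal.mul_sup]
    exact sup_le_sup_left Ideal.mul_le_right _
  obtain ⟨a, ha, b, hb, hab⟩ := Submodule.mem_sup.mp (hle ht)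
  obtain ⟨c, hc, rfl⟩ := Ideal.mem_mul_span_singleton.mp ha
  have htin : t ∈ Ideal.ofList ts ⊔ J := by
    refine (Ideal.unit_mul_mem_iff_mem _ (isUnit_one_sub_self_of_mem_nonunits c hc)).mp ?_
    rw [show (1 - c) * t = b by linear_combination -hab]
    exact hb
  haveI : Nontrivial (A ⧸ J) := Ideal.Quotient.nontrivial_iff.mpr fun h => maximalIdeal.isMaximal A |>.ne_top
    (top_le_iff.mp (h ▸ hJK.trans hK))
  have hmem : ∀ r ∈ t :: ts, r ∈ maximalIdeal A := fun r hr => hK (hsup.le (Ideal.mem_sup_left (Ideal.subset_span hr)))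
  have hperm : IsRegular (A ⧸ J) (ts ++ [t]) :=
    IsLocalRing.isRegular_of_perm (.of_isWeaklyRegular_of_mem_maximalIdeal _ hmem hreg) (List.perm_append_singleton t ts).symm
  have h2 := ((isWeaklyRegular_append_iff _ ts [t]).mp hperm.toIsWeaklyRegular).2
  rw [isWeaklyRegular_singleton_iff] at h2
  have hne : (Ideal.ofList ts • ⊤ : Submodule A (A ⧸ J)) ≠ ⊤ := fun h => hperm.top_ne_smul (by
    refine (top_le_iff.mp (h.ge.trans ?_)).symm
    exact Submodule.smul_mono_left (by rw [Ideal.ofList_append]; exact le_sup_left))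
  refine hne (eq_top_iff.mpr fun z _ => ?_)
  rw [← Submodule.Quotient.mk_eq_zero]
  refine h2 ?_
  dsimp only
  rw [smul_zero, ← Submodule.Quotient.mk_smul, Submodule.Quotient.mk_eq_zero]
  obtain ⟨p, hp, q, hq, rfl⟩ := Submodule.mem_sup.mp htin
  rw [add_smul, show q • z = 0 by
    obtain ⟨z, rfl⟩ := Ideal.Quotient.mk_surjective z
    exact Ideal.Quotient.eq_zero_iff_mem.mpr (J.mul_mem_right z hq), add_zero]
  exact Submodule.smul_mem_smul hp trivial

/-- Cancellation of regular ideals. -/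
theorem isRegularIdeal_of_lift' :
    ∀ (ts : List A) {J K : Ideal A}, J ≤ K → K ≤ maximalIdeal A → CInt.IsRegularIdeal K →
      IsWeaklyRegular (A ⧸ J) ts → Ideal.ofList ts ⊔ J = K → CInt.IsRegularIdeal J := by
  intro ts
  induction hn : ts.length generalizing A ts with
  | zero =>
    intro J K _ _ hKreg _ hsup
    rw [List.length_eq_zero_iff] at hn
    subst hn
    rw [Ideal.ofList_nil, bot_sup_eq] at hsup
    exact hsup ▸ hKreg
  | succ n ih =>
    intro J K hJK hK hKreg hreg hsup
    obtain ⟨t, ts, rfl⟩ := List.exists_cons_of_length_eq_add_one hn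
    have htK : t ∈ K := hsup.le (Ideal.mem_sup_left (Ideal.subset_span List.mem_cons_self))
    have htm : t ∈ maximalIdeal A := hK htK
    have ht : t ∉ maximalIdeal A * K := head_notMem hK hJK hreg hsup
    obtain ⟨ks, hks, hksK⟩ := exists_cons hKreg htK ht
    haveI : IsLocalRing (A ⧸ Ideal.span {t}) := RegLoc.isLocalRing_quotient ((Ideal.span_singleton_le_iff_mem _).mpr htm)
    obtain ⟨hts, hreg'⟩ := (isWeaklyRegular_cons_iff _ t ts).mp hreg
    let π := Ideal.Quotient.mk (Ideal.span {t})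
    have hK1 : CInt.IsRegularIdeal (K.map π) := by
      refine ⟨ks.map π, ((isRegular_cons htm ks).mp hks).2, ?_⟩
      rw [← hksK, Ideal.ofList_cons, Ideal.map_sup, Ideal.map_ofList, Ideal.map_quotient_self, bot_sup_eq]
    have hJ1 : CInt.IsRegularIdeal (J.map π) := by
      refine ih (ts.map π) (by simpa using hn) (K := K.map π) (Ideal.map_mono hJK) ?_ hK1 (isWeaklyRegular_quotient hreg') ?_
      · rw [RegLoc.maximalIdeal_quotient_eq_map]; exact Ideal.map_mono hK
      · rw [← Ideal.map_ofList, ← hsup, Ideal.ofList_cons, Ideal.map_sup, Ideal.map_sup,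
          Ideal.map_quotient_self, bot_sup_eq]
    have hnzd : IsSMulRegular A t := ((isRegular_cons htm ks).mp hks).1
    have hone : CInt.IsRegularIdeal (Ideal.span {t}) :=
      ⟨[t], .of_isWeaklyRegular_of_mem_maximalIdeal _ (by simpa using htm) ((isWeaklyRegular_singleton_iff A t).mpr hnzd),
        Ideal.ofList_singleton t⟩
    have hL : CInt.IsRegularIdeal (Ideal.span {t} ⊔ J) := by
      obtain ⟨us, hus, husJ⟩ := hJ1
      obtain ⟨us, rfl⟩ : ∃ us' : List A, us'.map π = us := List.map_surjective_iff.mpr Ideal.Quotient.mk_surjective us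
      refine isRegularIdeal_of_lift (sup_le ((Ideal.span_singleton_le_iff_mem _).mpr htm) (hJK.trans hK)) hone
        ((isWeaklyRegular_map_algebraMap_iff (A ⧸ Ideal.span {t}) _ us).mp hus.toIsWeaklyRegular) ?_
      have h2 := congrArg (Ideal.comap π) husJ
      rwa [← Ideal.map_ofList, Ideal.comap_map_quotientMk, Ideal.comap_map_quotientMk, sup_comm] at h2
    have htL : t ∉ maximalIdeal A * (Ideal.span {t} ⊔ J) := fun h =>
      ht (Ideal.mul_mono_right (sup_le ((Ideal.span_singleton_le_iff_mem _).mpr htK) hJK) h)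
    obtain ⟨rest, hrest, hrestL⟩ := exists_cons hL (Ideal.mem_sup_left (Ideal.mem_span_singleton_self t)) htL
    have hadj : ∀ r ∈ rest, ∃ j ∈ J, r - j ∈ Ideal.span {t} := fun r hr => by
      obtain ⟨a, ha, j, hj, hrj⟩ := Submodule.mem_sup.mp
        (hrestL.le (Ideal.subset_span (List.mem_cons_of_mem _ hr)))
      exact ⟨j, hj, by rw [← hrj, add_sub_cancel_right]; exact ha⟩
    choose! φ hφJ hφt using hadj
    have hjs : Ideal.ofList (t :: rest.map φ) = Ideal.ofList (t :: rest) := by
      rw [Ideal.ofList_cons, Ideal.ofList_cons]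
      refine le_antisymm (sup_le le_sup_left (Ideal.span_le.mpr ?_)) (sup_le le_sup_left (Ideal.span_le.mpr ?_))
      · intro x (hx : x ∈ rest.map φ)
        obtain ⟨r, hr, rfl⟩ := List.mem_map.mp hx
        rw [show φ r = -(r - φ r) + r by ring]
        exact add_mem (Ideal.mem_sup_left (neg_mem (hφt r hr))) (Ideal.mem_sup_right (Ideal.subset_span hr))
      · intro r (hr : r ∈ rest)
        rw [show r = (r - φ r) + φ r by ring]
        exact add_mem (Ideal.mem_sup_left (hφt r hr)) (Ideal.mem_sup_right (Ideal.subset_span (List.mem_map_of_mem hr)))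
    have hreg2 : IsRegular A (t :: rest.map φ) := isRegular_of_ofList_eq hrest (by simp) hjs
    have hreg3 : IsWeaklyRegular A (rest.map φ) :=
      ((isWeaklyRegular_append_iff _ _ [t]).mp
        (IsLocalRing.isRegular_of_perm hreg2 (List.perm_append_singleton t _).symm).toIsWeaklyRegular).1
    have hle : Ideal.ofList (rest.map φ) ≤ J := Ideal.span_le.mpr fun x hx => by
      obtain ⟨r, hr, rfl⟩ := List.mem_map.mp hx
      exact hφJ r hr
    refine ⟨rest.map φ, .of_isWeaklyRegular_of_mem_maximalIdeal _ (fun x hx => hK (hJK (hle (Ideal.subset_span hx)))) hreg3,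
      le_antisymm hle ?_⟩
    refine Submodule.le_of_le_smul_of_le_jacobson_bot (I := maximalIdeal A) (IsNoetherian.noetherian J)
      (IsLocalRing.maximalIdeal_le_jacobson _) fun x hx => ?_
    have hxL : x ∈ Ideal.span {t} ⊔ Ideal.ofList (rest.map φ) := by
      rw [← Ideal.ofList_cons, hjs, hrestL]
      exact Ideal.mem_sup_right hx
    obtain ⟨a, ha, y, hy, rfl⟩ := Submodule.mem_sup.mp hxL
    obtain ⟨a, rfl⟩ := Ideal.mem_span_singleton'.mp ha
    refine add_mem (Submodule.mem_sup_right ?_) (Submodule.mem_sup_left hy)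
    have haJ : a * t ∈ J := (Ideal.add_mem_iff_left J (hle hy)).mp hx
    have haJ' : a ∈ J := Ideal.Quotient.eq_zero_iff_mem.mp (hts (by
      show t • (Ideal.Quotient.mk J a) = t • (0 : A ⧸ J)
      rw [smul_zero]
      exact Ideal.Quotient.eq_zero_iff_mem.mpr (show t • a ∈ J by rwa [smul_eq_mul, mul_comm])))
    rw [mul_comm]
    exact Submodule.smul_mem_smul htm haJ'

end Groth.Agent.CIntReg

namespace Groth.Agent.CIntReg

variable {A : Type u} [CommRing A]

theorem isRegularIdeal_of_quotient_regular [IsRegularLocalRing A] {J : Ideal A} (hAJ : IsRegularLocalRing (A ⧸ J)) :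
    CInt.IsRegularIdeal J := by
  classical
  obtain ⟨n, hn, -⟩ := RegLoc.exists_natCast_eq_ringKrullDim A
  obtain ⟨s, t, hs, hst, hcard⟩ := RegLoc.exists_finset_span_eq_of_quotient hn J
  have hlen : (s.toList ++ t.toList).length = n := by simp [hcard]
  have hset : ∀ u : Finset A, Ideal.ofList u.toList = Ideal.span (u : Set A) := fun u => by
    rw [Ideal.ofList]; congr 1; ext x; simp
  have hfn : List.ofFn (fun i : Fin n => (s.toList ++ t.toList).get (i.cast hlen.symm)) = s.toList ++ t.toList := by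
    conv_rhs => rw [← List.ofFn_get (s.toList ++ t.toList)]
    rw [List.ofFn_congr hlen]
  have hreg := RegLoc.isRegular_ofFn hn (fun i : Fin n => (s.toList ++ t.toList).get (i.cast hlen.symm)) (by
    rw [← hst, ← hset, ← hset, ← Ideal.ofList_append]
    conv_rhs => rw [← hfn]
    rw [Ideal.ofList]
    congr 1
    ext x
    simp [List.mem_ofFn])
  rw [hfn] at hreg
  refine ⟨s.toList, .of_isWeaklyRegular_of_mem_maximalIdeal _ (fun x hx => ?_)
    ((isWeaklyRegular_append_iff _ _ _).mp hreg.toIsWeaklyRegular).1, by rw [hset, hs]⟩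
  exact mem_maximalIdeal_of_mem hreg (List.mem_append_left _ hx)

/-- An ideal in `m²` with regular quotient is zero. -/
theorem eq_bot_of_le_sq [IsRegularLocalRing A] {J : Ideal A} (hAJ : IsRegularLocalRing (A ⧸ J))
    (hJ : J ≤ maximalIdeal A ^ 2) : J = ⊥ := by
  classical
  obtain ⟨n, hn, -⟩ := RegLoc.exists_natCast_eq_ringKrullDim A
  obtain ⟨s, t, hs, hst, hcard⟩ := RegLoc.exists_finset_span_eq_of_quotient hn J
  have ht : Ideal.span (t : Set A) = maximalIdeal A :=
    RegLoc.eq_maximalIdeal_of_le_sup_sq (hst ▸ le_sup_right) (by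
      conv_lhs => rw [← hst, hs]
      exact sup_le (hJ.trans le_sup_right) le_sup_left)
  have h1 : n ≤ t.card := by
    rw [← RegLoc.spanFinrank_eq_dim hn, ← ht]
    exact (Submodule.spanFinrank_span_le_ncard_of_finite (Finset.finite_toSet _)).trans (Set.ncard_coe_finset _).le
  rw [← hs, Finset.card_eq_zero.mp (by omega : s.card = 0)]
  simp

/-- Regularity of a quotient of a regular local ring passes regular ideals to the quotient. -/
theorem map_isRegularIdeal :
    ∀ (n : ℕ) {A : Type u} [CommRing A] [IsRegularLocalRing A], ringKrullDim A = n → ∀ {J K : Ideal A}, J ≤ K →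
      K ≤ maximalIdeal A → IsRegularLocalRing (A ⧸ J) → CInt.IsRegularIdeal K →
      ∃ ts : List A, IsWeaklyRegular (A ⧸ J) ts ∧ Ideal.ofList ts ⊔ J = K := by
  intro n
  induction n using Nat.strong_induction_on with
  | _ n ih =>
    intro A _ _ hn J K hJK hK hAJ hKreg
    by_cases hJ2 : J ≤ maximalIdeal A ^ 2
    · obtain rfl := eq_bot_of_le_sq hAJ hJ2
      obtain ⟨ks, hks, rfl⟩ := hKreg
      exact ⟨ks, ((Submodule.quotEquivOfEqBot (⊥ : Ideal A) rfl).isWeaklyRegular_congr ks).mpr hks.toIsWeaklyRegular,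
        sup_bot_eq _⟩
    obtain ⟨x, hxJ, hx2⟩ := SetLike.not_le_iff_exists.mp hJ2
    have hxm : x ∈ maximalIdeal A := hK (hJK hxJ)
    have hxK : x ∉ maximalIdeal A * K := fun h => hx2 (by
      rw [pow_two]
      exact Ideal.mul_mono_right hK h)
    obtain ⟨ks, hks, hksK⟩ := exists_cons hKreg (hJK hxJ) hxK
    obtain ⟨hreg1, e, he, hen⟩ := RegLoc.isRegularLocalRing_quotient_span_singleton hxm hx2 hn
    haveI := hreg1
    let π := Ideal.Quotient.mk (Ideal.span {x})
    have hsurj : Function.Surjective π := Ideal.Quotient.mk_surjective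
    have hK1 : CInt.IsRegularIdeal (K.map π) := by
      refine ⟨ks.map π, ((isRegular_cons hxm ks).mp hks).2, ?_⟩
      rw [← hksK, Ideal.ofList_cons, Ideal.map_sup, Ideal.map_ofList, Ideal.map_quotient_self, bot_sup_eq]
    have hJx : Ideal.span {x} ≤ J := (Ideal.span_singleton_le_iff_mem _).mpr hxJ
    haveI : IsRegularLocalRing ((A ⧸ Ideal.span {x}) ⧸ J.map π) :=
      haveI := hAJ
      IsRegularLocalRing.of_ringEquiv (DoubleQuot.quotQuotEquivQuotOfLE hJx).symm
    obtain ⟨ts, hts, htsK⟩ := ih e (by omega) he (J := J.map π) (K := K.map π) (Ideal.map_mono hJK)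
      (by rw [RegLoc.maximalIdeal_quotient_eq_map]; exact Ideal.map_mono hK) inferInstance hK1
    obtain ⟨ts, rfl⟩ : ∃ ts' : List A, ts'.map π = ts := List.map_surjective_iff.mpr hsurj ts
    refine ⟨ts, ?_, ?_⟩
    · have h1 := (isWeaklyRegular_map_algebraMap_iff (A ⧸ Ideal.span {x}) _ ts).mp hts
      exact (((DoubleQuot.quotQuotEquivQuotOfLEₐ A hJx).toLinearEquiv).isWeaklyRegular_congr ts).mp h1
    · have h2 := congrArg (Ideal.comap π) htsK
      rw [← Ideal.map_ofList, ← Ideal.map_sup, Ideal.comap_map_quotientMk, Ideal.comap_map_quotientMk,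
        sup_eq_right.mpr (hJx.trans le_sup_right), sup_eq_right.mpr (hJx.trans hJK)] at h2
      exact h2

end Groth.Agent.CIntReg
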