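import Groth.Prelude.Def_CInt
import Groth.Agent.QReg.Basic
import Groth.Agent.RegLoc.Basic

/-! # Ideals generated by regular sequences in Noetherian local rings -/

set_option autoImplicit false
set_option linter.style.haveILetI false

universe u

open RingTheory.Sequence IsLocalRing

namespace Groth.Agent.CIntReg

variable {A : Type u} [CommRing A]

/-- Regular sequences through the quotient by the first element, at the level of rings. -/
theorem isWeaklyRegular_cons (t : A) (rs : List A) :
    IsWeaklyRegular A (t :: rs) ↔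
      IsSMulRegular A t ∧ IsWeaklyRegular (A ⧸ Ideal.span {t}) (rs.map (Ideal.Quotient.mk (Ideal.span {t}))) := by
  rw [isWeaklyRegular_cons_iff']
  refine and_congr_right fun _ => ?_
  let e : (A ⧸ Ideal.span {t}) ≃ₗ[A] QuotSMulTop t A :=
    Submodule.quotEquivOfEq _ _ (by rw [← Submodule.ideal_span_singleton_smul]; exact (Ideal.mul_top _).symm)
  exact ((LinearEquiv.extendScalarsOfSurjective Ideal.Quotient.mk_surjective e).isWeaklyRegular_congr _).symm

variable [IsLocalRing A]

theorem mem_maximalIdeal_of_mem {rs : List A} (h : IsRegular A rs) {r : A} (hr : r ∈ rs) :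
    r ∈ maximalIdeal A := by
  refine IsLocalRing.le_maximalIdeal (J := Ideal.ofList rs) (fun h' => h.top_ne_smul ?_) (Ideal.subset_span hr)
  rw [h', Submodule.top_smul]

theorem ofList_le {rs : List A} (h : IsRegular A rs) : Ideal.ofList rs ≤ maximalIdeal A :=
  Ideal.span_le.mpr fun _ hr => mem_maximalIdeal_of_mem h hr

/-- Regular sequences through the quotient by the first element. -/
theorem isRegular_cons {t : A} (ht : t ∈ maximalIdeal A) [IsLocalRing (A ⧸ Ideal.span {t})] (rs : List A) :
    IsRegular A (t :: rs) ↔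
      IsSMulRegular A t ∧ IsRegular (A ⧸ Ideal.span {t}) (rs.map (Ideal.Quotient.mk (Ideal.span {t}))) := by
  constructor
  · intro h
    obtain ⟨h1, h2⟩ := (isWeaklyRegular_cons t rs).mp h.toIsWeaklyRegular
    refine ⟨h1, .of_isWeaklyRegular_of_mem_maximalIdeal _ (fun r hr => ?_) h2⟩
    obtain ⟨s, hs, rfl⟩ := List.mem_map.mp hr
    exact (RegLoc.maximalIdeal_quotient_eq_map (Ideal.span {t})).symm ▸
      Ideal.mem_map_of_mem _ (mem_maximalIdeal_of_mem h (List.mem_cons_of_mem _ hs))
  · rintro ⟨h1, h2⟩
    refine .of_isWeaklyRegular_of_mem_maximalIdeal _ (fun r hr => ?_) ((isWeaklyRegular_cons t rs).mpr ⟨h1, h2.toIsWeaklyRegular⟩)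
    rcases List.mem_cons.mp hr with rfl | hr
    · exact ht
    · have := mem_maximalIdeal_of_mem h2 (List.mem_map.mpr ⟨r, hr, rfl⟩)
      by_contra hu
      exact (mem_maximalIdeal _).mp this ((notMem_maximalIdeal.mp hu).map _)

variable [IsNoetherianRing A]

/-- Any generating sequence of the same length of a regular ideal is a regular sequence. -/
theorem isRegular_of_ofList_eq {rs rs' : List A} (h : IsRegular A rs) (hl : rs'.length = rs.length)
    (he : Ideal.ofList rs' = Ideal.ofList rs) : IsRegular A rs' := by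
  have hrange : ∀ {n : ℕ} (f : Fin n → A), Ideal.span (Set.range f) = Ideal.ofList (List.ofFn f) := fun f => by
    rw [Ideal.ofList]
    congr 1
    ext x
    simp [List.mem_ofFn]
  obtain ⟨f, hf⟩ : ∃ f : Fin rs.length → A, List.ofFn f = rs := ⟨_, List.ofFn_get rs⟩
  obtain ⟨f', hf'⟩ : ∃ f : Fin rs.length → A, List.ofFn f = rs' :=
    ⟨fun i => rs'.get (i.cast hl.symm), by simp [List.ofFn_congr hl.symm]⟩
  have hm : ∀ r ∈ rs', r ∈ maximalIdeal A := fun r hr => ofList_le h (he ▸ Ideal.subset_span hr)
  refine .of_isWeaklyRegular_of_mem_maximalIdeal _ hm ?_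
  rw [← hf']
  refine SymGr.Regular.isWeaklyRegular_of_isQuasiRegular _ f' (fun i => ?_)
    (QReg.isQuasiRegular_of_span_eq f f' (SymGr.Regular.isQuasiRegular_of_isWeaklyRegular (hf.symm ▸ h.toIsWeaklyRegular)) ?_)
  · exact Ideal.jacobson_bot (R := A) ▸ IsLocalRing.maximalIdeal_le_jacobson _ (hm _ (hf' ▸ List.mem_ofFn.mpr ⟨i, rfl⟩))
  · rw [hrange, hrange, hf, hf', he]

/-- A regular ideal: an element outside `m • K` starts a regular sequence generating it. -/
theorem exists_cons {K : Ideal A} (hK : CInt.IsRegularIdeal K) {t : A} (htK : t ∈ K)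
    (ht : t ∉ maximalIdeal A * K) : ∃ rs, IsRegular A (t :: rs) ∧ Ideal.ofList (t :: rs) = K := by
  obtain ⟨ks, hks, rfl⟩ := hK
  obtain ⟨c, hc⟩ := (Submodule.mem_span_range_iff_exists_fun A).1
    (show t ∈ Submodule.span A (Set.range ks.get) by rwa [Set.range_list_get])
  obtain ⟨i, hi⟩ : ∃ i, IsUnit (c i) := by
    by_contra! hno
    exact ht (hc ▸ Submodule.sum_mem _ fun j _ => Ideal.mul_mem_mul (hno j) (Ideal.subset_span (ks.get_mem j)))
  classical
  have hperm : (ks[i.1] :: ks.eraseIdx i.1).Perm ks := List.getElem_cons_eraseIdx_perm i.2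
  refine ⟨ks.eraseIdx i.1, ?_⟩
  have hspan : Ideal.ofList (t :: ks.eraseIdx i.1) = Ideal.ofList ks := by
    refine le_antisymm (Ideal.span_le.mpr ?_) (Ideal.span_le.mpr ?_)
    · intro r (hr : r ∈ t :: ks.eraseIdx i.1)
      rcases List.mem_cons.mp hr with rfl | hr
      · exact htK
      · exact Ideal.subset_span (List.mem_of_mem_eraseIdx hr)
    · have hother : ∀ j, j ≠ i → c j * ks.get j ∈ Ideal.ofList (t :: ks.eraseIdx i.1) := fun j hj => by
        refine Ideal.mul_mem_left _ _ (Ideal.subset_span (List.mem_cons_of_mem _ ?_))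
        exact List.mem_eraseIdx_iff_getElem.mpr ⟨j.1, j.2, fun h => hj (Fin.ext h), rfl⟩
      have hki : ks.get i ∈ Ideal.ofList (t :: ks.eraseIdx i.1) := by
        refine (Ideal.unit_mul_mem_iff_mem _ hi).mp ?_
        have hsum : c i * ks.get i = t - ∑ j ∈ Finset.univ.erase i, c j * ks.get j := by
          rw [← hc, ← Finset.add_sum_erase _ _ (Finset.mem_univ i)]
          simp only [smul_eq_mul]
          ring
        rw [hsum]
        exact sub_mem (Ideal.subset_span (List.mem_cons_self))
          (Submodule.sum_mem _ fun j hj => hother j (Finset.ne_of_mem_erase hj))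
      intro r (hr : r ∈ ks)
      rcases List.mem_cons.mp (hperm.mem_iff.mpr hr) with rfl | hr
      · exact hki
      · exact Ideal.subset_span (List.mem_cons_of_mem _ hr)
  exact ⟨isRegular_of_ofList_eq hks (by have := hperm.length_eq; simp only [List.length_cons] at this ⊢; omega) hspan, hspan⟩

end Groth.Agent.CIntReg
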