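import Groth.Agent.CIntReg.Main

/-! Regularity lifts along quotients by regular sequences. -/

universe u

open IsLocalRing RingTheory.Sequence

namespace Groth.Agent.CIntReg

theorem isRegularLocalRing_of_isRegular :
    ∀ (n : ℕ) {A : Type u} [CommRing A] [IsNoetherianRing A] [IsLocalRing A] (rs : List A),
      rs.length = n → IsRegular A rs → IsRegularLocalRing (A ⧸ Ideal.ofList rs) → IsRegularLocalRing A := by
  intro n
  induction n with
  | zero =>
    intro A _ _ _ rs hlen _ h
    obtain rfl := List.eq_nil_of_length_eq_zero hlen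
    haveI := h
    exact IsRegularLocalRing.of_ringEquiv ((Ideal.quotEquivOfEq Ideal.ofList_nil).trans (RingEquiv.quotientBot A))
  | succ n ih =>
    intro A _ _ _ rs hlen hrs h
    obtain ⟨t, ts, rfl⟩ := List.exists_of_length_succ _ hlen
    have ht : t ∈ maximalIdeal A := mem_maximalIdeal_of_mem hrs (by simp)
    haveI : Nontrivial (A ⧸ Ideal.span {t}) :=
      Ideal.Quotient.nontrivial_iff.2 fun h => ht (Ideal.span_singleton_eq_top.1 h)
    haveI : IsLocalRing (A ⧸ Ideal.span {t}) :=
      IsLocalRing.of_surjective' (Ideal.Quotient.mk (Ideal.span {t})) Ideal.Quotient.mk_surjective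
    obtain ⟨ht1, hts⟩ := (isRegular_cons ht ts).1 hrs
    haveI : IsRegularLocalRing (A ⧸ Ideal.span {t}) := by
      refine ih _ (by simpa using hlen) hts ?_
      haveI := h
      refine IsRegularLocalRing.of_ringEquiv ((?_ : A ⧸ Ideal.ofList (t :: ts) ≃+* _))
      refine (Ideal.quotEquivOfEq ?_).trans
        ((DoubleQuot.quotQuotEquivQuotSup (Ideal.span {t}) (Ideal.ofList ts)).symm.trans
          (Ideal.quotEquivOfEq ?_))
      · rw [Ideal.ofList_cons]
      · rw [Ideal.map_ofList]
    exact RegLoc.isRegularLocalRing_of_quotient_span_singleton ht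
      (mem_nonZeroDivisors_iff_right.2 fun x hx => ht1 (by simpa [mul_comm] using hx))

end Groth.Agent.CIntReg
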